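import Cfsg.Agent.OD.Pre
import Cfsg.Agent.H6.Top2
set_option autoImplicit false
set_option maxRecDepth 100000
set_option Elab.async false
set_option linter.all false
namespace CfH6.HxLA
open CfH6 MulAction
noncomputable def n0_0 : Net := mkNet (nat_lit 48) [(nat_lit 24, (nat_lit 0x10418010418)), (nat_lit 12, (nat_lit 0x10000090090)), (nat_lit 6, (nat_lit 0xb2c)), (nat_lit 3, (nat_lit 0x8900c34))] [((nat_lit 0x201008), nat_lit 1), ((nat_lit 0x400490), nat_lit 1), ((nat_lit 0x200008), nat_lit 1)]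
noncomputable def n0_1 : Net := mkNet (nat_lit 48) [(nat_lit 24, (nat_lit 0x100000100)), (nat_lit 12, (nat_lit 0x800800)), (nat_lit 6, (nat_lit 0xd20)), (nat_lit 3, (nat_lit 0x900))] [((nat_lit 0x201048048), nat_lit 1), ((nat_lit 0x90), nat_lit 1), ((nat_lit 0x48), nat_lit 1)]
noncomputable def n0_2 : Net := mkNet (nat_lit 48) [(nat_lit 24, (nat_lit 0x200000200000)), (nat_lit 12, (nat_lit 0x600600336336)), (nat_lit 6, (nat_lit 0x400208820208)), (nat_lit 3, (nat_lit 0x8cb6910))] [((nat_lit 0x201200), nat_lit 1), ((nat_lit 0x10400), nat_lit 1), ((nat_lit 0x200), nat_lit 1)]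
noncomputable def n0_3 : Net := mkNet (nat_lit 48) [(nat_lit 24, (nat_lit 0xe00000e00000)), (nat_lit 12, (nat_lit 0xe00e00d12d12)), (nat_lit 6, (nat_lit 0xe38924208)), (nat_lit 3, (nat_lit 0x38912910))] [((nat_lit 0x9200), nat_lit 1), ((nat_lit 0x410400), nat_lit 1), ((nat_lit 0x8200), nat_lit 1)]
noncomputable def n0_4 : Net := mkNet (nat_lit 48) [(nat_lit 24, (nat_lit 0x800000800000)), (nat_lit 12, (nat_lit 0x800800000000)), (nat_lit 6, (nat_lit 0x618618000)), (nat_lit 3, (nat_lit 0x8186004b6))] [((nat_lit 0x9000048), nat_lit 1), ((nat_lit 0x12), nat_lit 1), ((nat_lit 0x8), nat_lit 1)]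
noncomputable def n0_5 : Net := mkNet (nat_lit 48) [(nat_lit 24, (nat_lit 0)), (nat_lit 12, (nat_lit 0x300300)), (nat_lit 6, (nat_lit 0xf3c000)), (nat_lit 3, (nat_lit 0xe12480))] [((nat_lit 0x9040), nat_lit 1), ((nat_lit 0x2410), nat_lit 1), ((nat_lit 0x1000), nat_lit 1)]
noncomputable def n0_6 : Net := mkNet (nat_lit 48) [(nat_lit 24, (nat_lit 0x120100120100)), (nat_lit 12, (nat_lit 0x100100800800)), (nat_lit 6, (nat_lit 0x820100000d20)), (nat_lit 3, (nat_lit 0x800000000900))] [((nat_lit 0x1049), nat_lit 1), ((nat_lit 0x2090), nat_lit 1), ((nat_lit 0x1048), nat_lit 1)]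
noncomputable def n0_7 : Net := mkNet (nat_lit 48) [(nat_lit 24, (nat_lit 0x1c00001c000)), (nat_lit 12, (nat_lit 0x1c018c00000)), (nat_lit 6, (nat_lit 0x30c000)), (nat_lit 3, (nat_lit 0x18012000))] [((nat_lit 0x9009008), nat_lit 1), ((nat_lit 0x402400), nat_lit 1), ((nat_lit 0x1000), nat_lit 1)]
noncomputable def n2_0 : Net := mkNet (nat_lit 40) [(nat_lit 20, (nat_lit 0x4202042020)), (nat_lit 10, (nat_lit 0x401008a228)), (nat_lit 5, (nat_lit 0x52a52))] [((nat_lit 0x10a028424), nat_lit 1), ((nat_lit 0x20481014a), nat_lit 1), ((nat_lit 0x10a028084), nat_lit 1), ((nat_lit 0x14a), nat_lit 1), ((nat_lit 0x20), nat_lit 1)]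
noncomputable def n2_1 : Net := mkNet (nat_lit 40) [(nat_lit 20, (nat_lit 0x100801000)), (nat_lit 10, (nat_lit 0x5010)), (nat_lit 5, (nat_lit 0x21000000))] [((nat_lit 0x2008420), nat_lit 1), ((nat_lit 0x214042800), nat_lit 1), ((nat_lit 0x8001000), nat_lit 1), ((nat_lit 0x14002800), nat_lit 1), ((nat_lit 0x2000400), nat_lit 1)]
noncomputable def n2_2 : Net := mkNet (nat_lit 40) [(nat_lit 20, (nat_lit 0x4800048)), (nat_lit 10, (nat_lit 0x1004)), (nat_lit 5, (nat_lit 0x8410908))] [((nat_lit 0x2409484), nat_lit 1), ((nat_lit 0x4a02848), nat_lit 1), ((nat_lit 0x2501484), nat_lit 1), ((nat_lit 0xa02800), nat_lit 1), ((nat_lit 0x401400), nat_lit 1)]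
noncomputable def n2_3 : Net := mkNet (nat_lit 40) [(nat_lit 20, (nat_lit 0)), (nat_lit 10, (nat_lit 0x600890240)), (nat_lit 5, (nat_lit 0x10810a52))] [((nat_lit 0x10a028424), nat_lit 1), ((nat_lit 0x401014a), nat_lit 1), ((nat_lit 0xa028084), nat_lit 1), ((nat_lit 0x14a), nat_lit 1), ((nat_lit 0x20), nat_lit 1)]
noncomputable def n2_4 : Net := mkNet (nat_lit 40) [(nat_lit 20, (nat_lit 0)), (nat_lit 10, (nat_lit 0xfc3f0)), (nat_lit 5, (nat_lit 0xf8084))] [((nat_lit 0x8084), nat_lit 1), ((nat_lit 0x12148), nat_lit 1), ((nat_lit 0x210a4), nat_lit 1), ((nat_lit 0x40940), nat_lit 1), ((nat_lit 0x480), nat_lit 1)]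
noncomputable def n2_5 : Net := mkNet (nat_lit 40) [(nat_lit 20, (nat_lit 0x1fc001fc00)), (nat_lit 10, (nat_lit 0x1fc0000000)), (nat_lit 5, (nat_lit 0x8421000000))] [((nat_lit 0x40400000), nat_lit 1), ((nat_lit 0x5094200008), nat_lit 1), ((nat_lit 0x2148500000), nat_lit 1), ((nat_lit 0x5094200000), nat_lit 1)]
noncomputable def n3_0 : Net := mkNet (nat_lit 32) [(nat_lit 16, (nat_lit 0x10201020)), (nat_lit 8, (nat_lit 0x11001010)), (nat_lit 4, (nat_lit 0x10100088)), (nat_lit 2, (nat_lit 0xa000080))] [((nat_lit 0x4405400), nat_lit 1)]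
noncomputable def n3_1 : Net := mkNet (nat_lit 32) [(nat_lit 16, (nat_lit 0xf060f060)), (nat_lit 8, (nat_lit 0x84842820)), (nat_lit 4, (nat_lit 0xee004400)), (nat_lit 2, (nat_lit 0xca4a040))] [((nat_lit 0x10104000), nat_lit 1)]
noncomputable def n3_2 : Net := mkNet (nat_lit 32) [(nat_lit 16, (nat_lit 0x30103010)), (nat_lit 8, (nat_lit 0xf1c00000)), (nat_lit 4, (nat_lit 0xaa22c088)), (nat_lit 2, (nat_lit 0xa00000a0))] [((nat_lit 0x45010010), nat_lit 1)]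
noncomputable def n3_3 : Net := mkNet (nat_lit 32) [(nat_lit 16, (nat_lit 0xc000c000)), (nat_lit 8, (nat_lit 0xc0c0c0c0)), (nat_lit 4, (nat_lit 0x44f000)), (nat_lit 2, (nat_lit 0xc0000))] [((nat_lit 0x450010), nat_lit 1)]
noncomputable def n3_4 : Net := mkNet (nat_lit 32) [(nat_lit 16, (nat_lit 0xbc00bc00)), (nat_lit 8, (nat_lit 0x75440000)), (nat_lit 4, (nat_lit 0x88884088)), (nat_lit 2, (nat_lit 0x80000a0))] [((nat_lit 0x40040010), nat_lit 1)]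
noncomputable def n4_0 : Net := mkNet (nat_lit 20) [(nat_lit 10, (nat_lit 0xbc2f0)), (nat_lit 5, (nat_lit 0xf8200))] [((nat_lit 0x214a0), nat_lit 1), ((nat_lit 0x52840), nat_lit 1), ((nat_lit 0x210a0), nat_lit 1), ((nat_lit 0x12040), nat_lit 1), ((nat_lit 0x8000), nat_lit 1)]
noncomputable def n4_1 : Net := mkNet (nat_lit 20) [(nat_lit 10, (nat_lit 0x380e0)), (nat_lit 5, (nat_lit 0xf8200))] [((nat_lit 0x9400), nat_lit 1), ((nat_lit 0x52840), nat_lit 1), ((nat_lit 0x284a0), nat_lit 1), ((nat_lit 0x40), nat_lit 1)]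
noncomputable def n4_2 : Net := mkNet (nat_lit 20) [(nat_lit 10, (nat_lit 0x18060)), (nat_lit 5, (nat_lit 0xf8108))] [((nat_lit 0x12948), nat_lit 1), ((nat_lit 0x294a0), nat_lit 1), ((nat_lit 0x50940), nat_lit 1)]
noncomputable def n4_3 : Net := mkNet (nat_lit 20) [(nat_lit 10, (nat_lit 0xfc3f0)), (nat_lit 5, (nat_lit 0xf8084))] [((nat_lit 0x8084), nat_lit 1), ((nat_lit 0x12148), nat_lit 1), ((nat_lit 0x210a4), nat_lit 1), ((nat_lit 0x40940), nat_lit 1), ((nat_lit 0x480), nat_lit 1)]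
noncomputable def nets0 : List Net := [n0_0, n0_1, n0_2, n0_3, n0_4, n0_5, n0_6, n0_7]
noncomputable def nets1 : List Net := [n0_0, n0_1, n0_2, n0_3, n0_4, n0_5, n0_7]
def ws1 : List (List ℕ) := [[0],
  [1],
  [2],
  [3],
  [4],
  [5],
  [7]]
noncomputable def nets2 : List Net := [n2_0, n2_1, n2_2, n2_3, n2_4, n2_5]
def ws2 : List (List ℕ) := [[0, 1, 0],
  [1],
  [3],
  [4],
  [5],
  [6]]
noncomputable def nets3 : List Net := [n3_0, n3_1, n3_2, n3_3, n3_4]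
def ws3 : List (List ℕ) := [[0, 1, 3, 3, 2, 3, 3, 1, 0],
  [5, 0, 2, 0],
  [2],
  [4],
  [5]]
noncomputable def nets4 : List Net := [n4_0, n4_1, n4_2, n4_3]
def ws4 : List (List ℕ) := [[1, 3, 4, 3, 1],
  [0, 1, 1, 3, 0],
  [2, 3, 2],
  [3]]
def sig : List (List ℕ) := [[0],
  [1],
  [2],
  [3],
  [4],
  [5],
  [6],
  [7]]
def eqs0 : List (List ℕ × List ℕ) := [([0, 0], []),
  ([1, 1], []),
  ([2, 2], []),
  ([3, 3], []),
  ([4, 4], []),
  ([5, 5], []),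
  ([6, 6], []),
  ([7, 7], []),
  ([0, 1, 0, 1], [1, 0, 1, 0]),
  ([0, 2], [2, 0]),
  ([0, 3], [3, 0]),
  ([0, 4], [4, 0]),
  ([0, 5], [5, 0]),
  ([1, 2, 1], [2, 1, 2]),
  ([1, 3, 1, 3], [3, 1, 3, 1]),
  ([1, 4], [4, 1]),
  ([1, 5], [5, 1]),
  ([2, 3], [3, 2]),
  ([2, 4, 2, 4], [4, 2, 4, 2]),
  ([2, 5], [5, 2]),
  ([3, 4, 3], [4, 3, 4]),
  ([3, 5, 3, 5], [5, 3, 5, 3]),
  ([4, 5], [5, 4]),
  ([1, 3, 1, 5, 3, 1], [5, 3, 1, 5, 3, 5]),
  ([0, 1, 0, 3, 1, 0], [3, 1, 0, 3, 1, 3]),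
  ([3, 4, 3, 5, 3], [5, 3, 5, 4]),
  ([1, 3, 1, 3, 4], [4, 3, 1, 3]),
  ([1, 2, 1, 3, 1], [3, 1, 3, 2]),
  ([0, 1, 0, 1, 2], [2, 1, 0, 1]),
  ([0, 6, 0], [6, 0, 6]),
  ([6, 1], [1, 6]),
  ([6, 3], [3, 6]),
  ([6, 4], [4, 6]),
  ([6, 5], [5, 6]),
  ([6, 0, 1, 0, 1], [0, 1, 0, 6]),
  ([5, 7, 5], [7, 5, 7]),
  ([7, 3], [3, 7]),
  ([7, 1], [1, 7]),
  ([7, 2], [2, 7]),
  ([7, 0], [0, 7]),
  ([7, 5, 3, 5, 3], [5, 3, 5, 7]),
  ([6, 7], [7, 6]),
  ([4, 7, 4, 7], [7, 4, 7, 4]),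
  ([2, 6, 2, 6], [6, 2, 6, 2])]
def eqs : List (List ℕ × List ℕ) := eqs0
def lU : List (ℕ × ℕ) := [(0, 27), (32, 3), (40, 1)]
noncomputable def U : ℕ := ivls lU
def l1 : List (ℕ × ℕ) := [(1, 26), (32, 3), (40, 1)]
noncomputable def S1 : ℕ := ivls l1
def w1 : List ℕ := [6]
noncomputable def J : List (List ℕ × ℕ × ℕ) := [(w1, 1, S1)]
def lBig : List (ℕ × ℕ) := [(1, 26), (32, 3), (40, 1)]
noncomputable def J1 : List (List ℕ × ℕ × ℕ) := [([0], 1, S1)]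
def ex : List (List ℕ) := [[4, 2, 6, 1, 3, 6, 7, 0, 6, 5]]
def bs' : List ℕ := [0, 1, 2, 3, 4]
end CfH6.HxLA
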